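import Cfsg.Agent.KZ.Lie.McQ
import Cfsg.Agent.KZ.DatX.Main_m3
import Cfsg.Agent.S1063
import Cfsg.Agent.S1066
import Cfsg.Agent.S1067
import Cfsg.Agent.KZ.McX.WF4
import Cfsg.Agent.FastGrp
import Cfsg.Agent.Prune
set_option linter.all false

section
prune_inst 0x7fffb9fefffbffffffff7ffffffcffff9bbedfffffdff973ffeb6bff1f9f137fcfc5fbaf6df4b8ff9ef7e29410b87853ff7eeeffea6fdc7ffffdfff41ffbee5ff7ffb50851d59c340f746fff9bf17faa7f3fffffffffffffffffffffffffffffffffffffffff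

-- part: KZ/McX/Gt
section
prune_inst 0x10004000000000000000000004001000000000088000004002000288000080000020000000000006004400300000000000000000000000000000011800800000000080080000200000000000400000000000000000000000000000000000000000000
set_option linter.all false
open scoped Cfsg.Agent.FastGrp

/-!
# KZ, the membership test for `E₆ ^ (-ε)` and `³D₄` (helper22)

`Gt D w₀ Q P` : `w₀ F` acts as `Q • P`; `Pk D Adm w₀ Q P` : moreover `LevC`, `CardC`, `AdmC`; `HasP` : the analogue of `Has`;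
`hasP_E6`, `hasP_2E6`, `hasP_3D4`, `rowP_E6`, `rowP_2E6`, `rowP_3D4`.
-/

set_option autoImplicit false
set_option linter.unusedSectionVars false

namespace Cfsg.Agent.KZ.McX

open Cfsg Cfsg.Lie Cfsg.Agent.DL Cfsg.Agent.DL.PP Cfsg.Agent.KZ.Lie Cfsg.Agent.KZ.DatX Matrix
open Cfsg.Agent.ChevalleyStructure Cfsg.Agent.ChevalleyStructure.CoxeterGeomTypes Cfsg.Agent.Nodes Cfsg.Agent.Nodes.RGDChev

/-- two commuting elements of order three -/
theorem nine_dvd_card {H : Type*} [Group H] [Finite H] {x y : H} (hx : x ^ 3 = 1) (hy : y ^ 3 = 1) (hc : y * x = x * y)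
    (h0 : x ≠ 1) (h1 : y ≠ 1) (h2 : y ≠ x) (h3 : y ≠ x * x) : 3 ^ 2 ∣ Nat.card H := by
  have : Fact (Nat.Prime 3) := ⟨Nat.prime_three⟩
  let C := Subgroup.centralizer {x}
  let x' : C := ⟨x, Subgroup.mem_centralizer_singleton_iff.2 rfl⟩
  let y' : C := ⟨y, Subgroup.mem_centralizer_singleton_iff.2 hc⟩
  have h4 : orderOf x' = 3 := orderOf_eq_prime (Subtype.ext hx) fun e => h0 (congrArg Subtype.val e)
  have : (Subgroup.zpowers x').Normal := ⟨fun n hn g => by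
    obtain ⟨i, rfl⟩ := hn
    have h5 : Commute g x' := Subtype.ext (Subgroup.mem_centralizer_singleton_iff.1 g.2)
    beta_reduce
    rw [(h5.zpow_right i).eq, mul_inv_cancel_right]
    exact ⟨i, rfl⟩⟩
  have h5 : orderOf (y' : C ⧸ Subgroup.zpowers x') = 3 :=
    orderOf_eq_prime (by rw [← QuotientGroup.mk_pow, show y' ^ 3 = 1 from Subtype.ext hy, QuotientGroup.mk_one]) fun e => by
      classical
      rw [QuotientGroup.eq_one_iff, mem_zpowers_iff_mem_range_orderOf, h4, Finset.mem_image] at e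
      obtain ⟨i, hi, e⟩ := e
      have h6 : x ^ i = y := congrArg Subtype.val e
      rw [Finset.mem_range] at hi
      interval_cases i
      exacts [h1 (h6.symm.trans (pow_zero x)), h2 (h6.symm.trans (pow_one x)), h3 (h6.symm.trans (pow_two x))]
  refine Dvd.dvd.trans ?_ C.card_subgroup_dvd_card
  rw [Subgroup.card_eq_card_quotient_mul_card_subgroup (Subgroup.zpowers x'), Nat.card_zpowers, h4, pow_two]
  exact Nat.mul_dvd_mul_right (h5 ▸ orderOf_dvd_natCard _) 3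

section Gen

variable {p : ℕ} [Fact p.Prime] {k : Type} [Field k] [CharP k p] {Y : Type} [Group Y] {N : Type} [Fintype N]
  [DecidableEq N] {ρ : Y →* GL N k} {F : MulAut Y} {G : Subgroup Y} [IsAlgClosed k] {D : Datum p ρ F G} {w₀ : D.W}
  {Q : ℤ} {P : Matrix D.R D.R ℤ} {Adm : Matrix D.R D.R ℤ → Prop}

theorem tc_mat {v w w' : D.W} : Tc D v w w' ↔ D.Wm v * (D.Wm w * D.Mx) = D.Wm w' * D.Mx * D.Wm v := by
  rw [mul_assoc (D.Wm w'), D.Mx_Wm, ← mul_assoc, ← mul_assoc, ← D.Wm_mul, ← D.Wm_mul,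
    (isRegular_of_isLeftRegular_det (IsRegular.of_ne_zero D.det_Mx_ne_zero).left).right.eq_iff, D.Wm_injective.eq_iff, eq_comm]
  rfl

theorem card_of_int {K : ℤ} {c : ℕ} (h : (Nat.card ↥(GF F G) : ℤ) = (D.Wm w₀ * D.Mx - 1).det * K) (hK : ¬ 3 ^ (c + 1) ∣ K)
    (hc : 3 ^ c ∣ Nat.card (CW D w₀)) : CardC D w₀ :=
  card_of_mul (K := K.natAbs) (by rw [ordT, ← Int.natAbs_mul, ← h, Int.natAbs_natCast])
    (fun e => hK (by exact_mod_cast Int.natCast_dvd.2 e)) hc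

variable (D w₀ Q P) in
/-- `w₀ F` acts on the cocharacters as `Q • P` -/
structure Gt : Prop where
  eq : D.Wm w₀ * D.Mx = Q • P
  dvd : 3 ∣ Q - 1

namespace Gt

variable (h : Gt D w₀ Q P)
include h

theorem ne : Q ≠ 0 := by
  have := h.dvd
  omega

theorem mem_CW {v : D.W} : v ∈ CW D w₀ ↔ D.Wm v * P = P * D.Wm v := by
  refine tc_mat.trans ?_
  rw [h.eq, Matrix.mul_smul, Matrix.smul_mul, (smul_right_injective _ h.ne).eq_iff]

theorem levC (H : ∀ a, D.Rt a → ∃ lam, P *ᵥ lam = lam ∧ (∀ b, D.Rt b → |D.wt b ⬝ᵥ lam| ≤ 2) ∧ D.wt a ⬝ᵥ lam ≠ 0) :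
    LevC D w₀ := fun a ha => by
  obtain ⟨lam, h1, h2, h3⟩ := H a ha
  refine ⟨lam, fun i => ?_, fun b hb e => ?_, h3⟩
  · rw [h.eq, sub_mulVec, smul_mulVec, h1, one_mulVec, Pi.sub_apply, Pi.smul_apply, smul_eq_mul, ← sub_one_mul]
    exact h.dvd.mul_right _
  · have := abs_le.1 (h2 b hb)
    omega

theorem admC (H : ∀ A, Adm A → A * P = P * A) : AdmC D Adm w₀ := fun _ A _ hA =>
  ⟨1, by rw [D.Wm_one, one_mul, h.eq, Matrix.mul_smul, Matrix.smul_mul, H A hA]⟩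

theorem three_dvd {x : D.W} {A : Matrix D.R D.R ℤ} (hx : D.Wm x = A) (H : A * P = P * A ∧ A * (A * A) = 1 ∧ A ≠ 1) :
    3 ^ 1 ∣ Nat.card (CW D w₀) := by
  have : Fact (Nat.Prime 3) := ⟨Nat.prime_three⟩
  subst hx
  simp only [← D.Wm_mul, ← D.Wm_one, D.Wm_injective.eq_iff, D.Wm_injective.ne_iff, ← h.mem_CW] at H
  have h4 : orderOf (⟨x, H.1⟩ : CW D w₀) = 3 :=
    orderOf_eq_prime (Subtype.ext ((pow_three x).trans H.2.1)) (Subtype.coe_ne_coe.1 H.2.2)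
  exact (pow_one 3).symm ▸ h4 ▸ orderOf_dvd_natCard _

theorem nine_dvd {x y : D.W} {A B : Matrix D.R D.R ℤ} (hx : D.Wm x = A) (hy : D.Wm y = B)
    (H : A * P = P * A ∧ B * P = P * B ∧ A * (A * A) = 1 ∧ B * (B * B) = 1 ∧ B * A = A * B ∧ A ≠ 1 ∧ B ≠ 1 ∧ B ≠ A ∧
      B ≠ A * A) : 3 ^ 2 ∣ Nat.card (CW D w₀) := by
  subst hx hy
  simp only [← D.Wm_mul, ← D.Wm_one, D.Wm_injective.eq_iff, D.Wm_injective.ne_iff, ← h.mem_CW] at H
  obtain ⟨h1, h2, h3, h4, h5, h6, h7, h8, h9⟩ := H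
  exact nine_dvd_card (x := ⟨x, h1⟩) (y := ⟨y, h2⟩) (Subtype.ext ((pow_three x).trans h3))
    (Subtype.ext ((pow_three y).trans h4)) (Subtype.ext h5) (Subtype.coe_ne_coe.1 h6) (Subtype.coe_ne_coe.1 h7)
    (Subtype.coe_ne_coe.1 h8) (Subtype.coe_ne_coe.1 h9)

end Gt

/-- all hypotheses on the Sylow torus -/
structure Pk (D : Datum p ρ F G) (Adm : Matrix D.R D.R ℤ → Prop) (w₀ : D.W) (Q : ℤ) (P : Matrix D.R D.R ℤ) : Prop
    extends Gt D w₀ Q P where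
  levC : LevC D w₀
  cardC : CardC D w₀
  admC : AdmC D Adm w₀

theorem Pk.regC (h : Pk D Adm w₀ Q P) : RegC D w₀ := h.levC.regC

/-- **The membership test.** -/
theorem Pk.mc (h : Pk D Adm w₀ Q P) (f : Fr D) [Fintype ↥(GF F G)] (hp : p ≠ 3) : Mc f w₀ :=
  mc_of_lev2 f hp h.levC h.cardC

end Gen

variable {p : ℕ} [Fact p.Prime] {k : Type} [Field k] [CharP k p] [IsAlgClosed k] {Q : ℤ}

section X

variable {C : ChevalleyDatum} {l : ℕ} {M : CoxeterMatrix (Fin l)} {hp : IsType C l M} {Mx P : Matrix (Fin l) (Fin l) ℤ}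
  {Adm : Matrix (Fin l) (Fin l) ℤ → Prop} {S S' : Type} [Group S] [Group S']

theorem levC_of_list {X : XF hp p k Mx} {w₀ : X.D.W} (h : Gt X.D w₀ Q P) (L : List (Fin l → ℤ))
    (h1 : ∀ lam ∈ L, P *ᵥ lam = lam ∧ ∀ r < C.nroots, |RGDChev.vec C l r ⬝ᵥ lam| ≤ 2)
    (h2 : ∀ r < C.nroots, ∃ lam ∈ L, RGDChev.vec C l r ⬝ᵥ lam ≠ 0) : LevC X.D w₀ := h.levC fun a ha => by
  obtain ⟨r, hr, rfl⟩ := (X.rt_iff a).1 ha
  obtain ⟨lam, h3, h4⟩ := h2 r hr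
  refine ⟨lam, (h1 lam h3).1, fun b hb => ?_, h4⟩
  obtain ⟨r', hr', rfl⟩ := (X.rt_iff b).1 hb
  exact (h1 lam h3).2 r' hr'

theorem card_GF {X : XF hp p k Mx} (s : XS X Adm 1 S) : Nat.card ↥(GF X.F ⊤) = Nat.card S := by
  rw [s.ov.card_eq, Nat.dvd_one.1 (s.idx odd_one), mul_one]

theorem comm_admF {A : Matrix (Fin l) (Fin l) ℤ} (h : AdmF p A) : A * P = P * A := by
  obtain ⟨j, rfl⟩ := h
  rw [Matrix.mul_smul, Matrix.smul_mul, mul_one, one_mul]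

/-- `S = G ^ F`, with a Sylow torus on which the Frobenius acts as `Q • P` -/
def HasP (hp : IsType C l M) (p : ℕ) [Fact p.Prime] (Mx : Matrix (Fin l) (Fin l) ℤ)
    (Adm : Matrix (Fin l) (Fin l) ℤ → Prop) (S : Type) [Group S] (Q : ℤ) (P : Matrix (Fin l) (Fin l) ℤ) : Prop :=
  ∃ (k : Type) (_ : Field k) (_ : CharP k p) (_ : IsAlgClosed k) (X : XF hp p k Mx) (_ : XS X Adm 1 S) (w₀ : X.D.W),
    Pk X.D Adm w₀ Q P

theorem HasP.congr (h : HasP hp p Mx Adm S Q P) (e : S' ≃* S) : HasP hp p Mx Adm S' Q P := by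
  obtain ⟨k, _, _, _, X, s, h⟩ := h
  exact ⟨k, _, _, _, X, s.congr e, h⟩

end X

/-! ### `E₆` -/

theorem det_P6 (Q : ℤ) : (Q • P6 - 1).det = (Q - 1) ^ 4 * (Q + 1) ^ 2 := by
  rw [show Q • P6 - 1 = !![-1, 0, 0, 0, 0, Q; 0, Q - 1, 0, 0, 0, 0; 0, 0, -1, 0, Q, 0; 0, 0, 0, Q - 1, 0, 0;
    0, 0, Q, 0, -1, 0; Q, 0, 0, 0, 0, -1] by
      rw [P6_eq]; ext i j; (revert i j; simp only [_root_.Fin.forall_fin_succ, _root_.Matrix.smul_of, _root_.Matrix.smul_cons, _root_.Int.zsmul_eq_mul, _root_.MulZeroClass.mul_zero, _root_.mul_one, _root_.Matrix.smul_empty, _root_.Matrix.sub_apply, _root_.Matrix.of_apply, _root_.Matrix.cons_val', _root_.Matrix.cons_val_fin_one, Int.reduceNeg, Fin.isValue, _root_.Matrix.cons_val_zero, _root_.Matrix.cons_val_succ, _root_.IsEmpty.forall_iff, _root_.and_true, _root_.Matrix.one_apply_eq, _root_.zero_sub, Nat.reduceAdd, _root_.Fin.succ_zero_eq_one, _root_.ne_eq,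 _root_.zero_ne_one, _root_.not_false_eq_true, _root_.Matrix.one_apply_ne, _root_.sub_self, _root_.Fin.succ_one_eq_two, Fin.reduceEq, Fin.reduceSucc, _root_.sub_zero, _root_.and_self, _root_.Fin.succ_ne_zero, _root_.true_and, _root_.sub_eq_self, _root_.neg_eq_zero, _root_.neg_inj])]
  simp only [det_succ_row_zero, Fin.sum_univ_succ, Fin.succAbove, _root_.Int.reduceNeg, _root_.Nat.succ_eq_add_one, _root_.Nat.reduceAdd, _root_.Fin.isValue, _root_.Matrix.of_apply, _root_.Matrix.cons_val', _root_.Matrix.cons_val_fin_one, _root_.Matrix.cons_val_zero, _root_.Matrix.submatrix_apply, _root_.Fin.succ_zero_eq_one, _root_.Matrix.cons_val_one, _root_.Matrix.submatrix_submatrix, _root_.Function.comp_apply, _root_.Fin.succ_one_eq_two, _root_.Matrix.cons_val, _root_.Fin.reduceSucc, _root_.Matrix.det_unique, _root_.Fin.default_eq_zero, _root_.Fin.castSucc_zero, _root_.Fin.coe_ofNat_eq_mod,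 _root_.Nat.zero_mod, _root_.pow_zero, _root_.one_mul, _root_.lt_self_iff_false, ↓ _root_.reduceIte, _root_.Fin.castSucc_one, _root_.Finset.univ_unique, _root_.Fin.val_succ, _root_.Fin.val_eq_zero, _root_.zero_add, _root_.pow_one, _root_.Fin.castSucc_succ, _root_.neg_mul, _root_.Fin.succ_pos, _root_.Finset.sum_neg_distrib, _root_.Finset.sum_singleton, _root_.not_lt_zero, _root_.Fin.reduceCastSucc, _root_.even_two, _root_.Even.neg_pow, _root_.one_pow, _root_.Fin.reduceLT, _root_.Fin.lt_one_iff, _root_.Fin.reduceEq, _root_.Int.reducePow, _root_.mul_neg, _root_.mul_one, _root_.neg_neg, _root_.MulZeroClass.mul_zero, _root_.neg_zero, _root_.add_zero, _root_.neg_sub, _root_.MulZeroClass.zero_mul, _root_.Matrix.cons_val_succ]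
  ring

theorem not_dvd_of {n : ℕ} (f : ∀ {R : Type} [CommRing R], R → R) (hf : ((f Q : ℤ) : ZMod n) = f (Q : ZMod n))
    (h : ∀ t : ZMod n, f (3 * t + 1) ≠ 0) (hQ : 3 ∣ Q - 1) : ¬ (n : ℤ) ∣ f Q := fun e => by
  obtain ⟨t, ht⟩ := hQ
  refine h t ?_
  rw [← ZMod.intCast_zmod_eq_zero_iff_dvd, hf, sub_eq_iff_eq_add.1 ht] at e
  exact_mod_cast e

/-- an element of order three -/
def a6 : Matrix (Fin 6) (Fin 6) ℤ := !![-1, 0, -1, 0, 0, 0; 0, 1, 0, 0, 0, 0; 1, 0, 0, 0, 0, 0; 0, 0, 1, 1, 1, 0;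
  0, 0, 0, 0, 0, 1; 0, 0, 0, 0, -1, -1]

/-- an element of order three -/
def b6 : Matrix (Fin 6) (Fin 6) ℤ := !![1, 0, 0, 0, 0, 0; -1, -2, -2, -3, -2, -1; 0, 0, 1, 0, 0, 0; 0, 1, 0, 1, 0, 0;
  0, 0, 0, 0, 1, 0; 0, 0, 0, 0, 0, 1]

/-- an element of order three -/
def a4 : Matrix (Fin 4) (Fin 4) ℤ := !![1, 1, 0, 0; -1, -2, -1, -1; 0, 1, 1, 0; 0, 1, 0, 1]

theorem ab6 : a6 * P6 = P6 * a6 ∧ b6 * P6 = P6 * b6 ∧ a6 * (a6 * a6) = 1 ∧ b6 * (b6 * b6) = 1 ∧ b6 * a6 = a6 * b6 ∧ a6 ≠ 1 ∧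
    b6 ≠ 1 ∧ b6 ≠ a6 ∧ b6 ≠ a6 * a6 := by decide +kernel

section E6

variable {Mx : Matrix (Fin 6) (Fin 6) ℤ} {X : XF hpE6 p k Mx} {w₀ : X.D.W} (h : Gt X.D w₀ Q P6)
include h

theorem Gt.levC6 : LevC X.D w₀ :=
  levC_of_list h [![0, 2, 0, -1, 0, 0], ![0, -1, -1, 2, -1, 0], ![-1, -1, 1, 0, 1, -1], ![1, -1, 0, 0, 0, 1]]
    (by decide +kernel) (by decide +kernel)

theorem Gt.nine6 : 3 ^ 2 ∣ Nat.card (CW X.D w₀) :=
  h.nine_dvd ((X.Wm_word [0, 5, 2, 4]).trans (prod_eq_of isRows_E6 _ (B := a6) (by decide +kernel)))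
    ((X.Wm_word [1, 3, 2, 4, 3, 1, 0, 5, 2, 4, 3, 1, 2, 4, 3, 0, 5, 2, 4, 3]).trans (prod_eq_of isRows_E6 _
      (B := b6) (by decide +kernel))) ab6

theorem Gt.cardC6 (hG : (Nat.card ↥(GF X.F ⊤) : ℤ) =
    Q ^ 36 * (Q ^ 2 - 1) * (Q ^ 5 + 1) * (Q ^ 6 - 1) * (Q ^ 8 - 1) * (Q ^ 9 + 1) * (Q ^ 12 - 1)) : CardC X.D w₀ := by
  refine card_of_int ?_ (not_dvd_of (n := 27) (fun x => x ^ 36 * (x ^ 5 + 1) * (x ^ 9 + 1) * (x ^ 4 + x ^ 2 + 1) *
    ((x + 1) * (x ^ 2 + 1) * (x ^ 4 + 1)) * ((x ^ 6 + 1) * (x ^ 3 + 1) * (x ^ 2 + x + 1))) (by push_cast; rfl)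
    (by decide +kernel) h.dvd) h.nine6
  rw [hG, h.eq]
  refine Eq.trans ?_ ((congrArg (· * _) (det_P6 Q).symm :))
  ring

end E6

section D4

variable {Mx : Matrix (Fin 4) (Fin 4) ℤ} {X : XF hpD4 p k Mx} {w₀ : X.D.W} (h : Gt X.D w₀ Q P4)
include h

end D4

/-! ### the groups -/

section Grp

variable {K : Type} [Field K] [Fintype K] [CharP K p] {e : ℕ}

theorem cast_sub_one {q : ℕ} (hq : 0 < q) (n : ℕ) : ((q ^ n - 1 : ℕ) : ℤ) = (q : ℤ) ^ n - 1 := by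
  rw [Nat.cast_sub (Nat.one_le_pow n q hq), Nat.cast_pow, Nat.cast_one]

theorem hasP_E6 (hK : Fintype.card K = p ^ e) (h : 3 ∣ p ^ e + 1) :
    HasP hpE6 p ((p : ℤ) ^ e • 1) (AdmL p [1, P6]) ↥(chevE6.group K) (-(p : ℤ) ^ e) P6 := by
  have h0 := pow_pos (Fact.out : p.Prime).pos e
  have h1 : Nat.gcd 3 (p ^ e - 1) = 1 := (Nat.prime_three.coprime_iff_not_dvd).2 (by omega)
  have h2 := S1063.result hK
  obtain ⟨k, _, _, _, X, ⟨s⟩⟩ := has_E6 hK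
  rw [h1] at s h2
  obtain ⟨w, hw⟩ := X.exists_neg_E6
  have g : Gt X.D w (-(p : ℤ) ^ e) P6 := ⟨by
    rw [hw]
    show -P6 * ((p : ℤ) ^ e • 1) = _ • P6
    rw [Matrix.mul_smul, mul_one, smul_neg]
    exact (neg_smul _ P6).symm, by
      have : ((3 : ℕ) : ℤ) ∣ ((p ^ e + 1 : ℕ) : ℤ) := Int.natCast_dvd_natCast.2 h
      push_cast at this
      omega⟩
  refine ⟨k, _, _, _, X, s, w, g, g.levC6, g.cardC6 ?_, g.admC ?_⟩
  · rw [card_GF s, ← one_mul (Nat.card _), h2]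
    simp only [Nat.cast_mul, cast_sub_one h0, Nat.cast_pow]
    ring
  · rintro _ ⟨j, B, hB, rfl⟩
    rcases List.mem_cons.1 hB with rfl | hB
    · exact comm_admF ⟨j, rfl⟩
    · rw [List.mem_singleton.1 hB]
      exact (Matrix.smul_mul _ _ _).trans (Matrix.mul_smul _ _ _).symm

theorem hasP_2E6 (hK : Fintype.card K = (p ^ e) ^ 2) (h : 3 ∣ p ^ e - 1) :
    HasP hpE6 p ((p : ℤ) ^ e • P6) (AdmF p) ↥(twistedE6 K (p ^ e)) ((p : ℤ) ^ e) P6 := by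
  have h0 := pow_pos (Fact.out : p.Prime).pos e
  have he : 0 < e := by
    have h := pos_of_card (hK.trans (pow_mul _ _ _).symm)
    omega
  have h1 : Nat.gcd 3 (p ^ e + 1) = 1 := (Nat.prime_three.coprime_iff_not_dvd).2 (by omega)
  have h2 := S1066.result ((Fact.out : p.Prime).isPrimePow.pow he.ne') hK
  obtain ⟨k, _, _, _, X, ⟨s⟩⟩ := has_2E6 hK
  rw [h1] at s h2
  have g : Gt X.D 1 ((p : ℤ) ^ e) P6 := ⟨by rw [X.D.Wm_one, one_mul]; rfl, by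
    have : ((3 : ℕ) : ℤ) ∣ ((p ^ e - 1 : ℕ) : ℤ) := Int.natCast_dvd_natCast.2 h
    rwa [cast_sub_one (Fact.out : p.Prime).pos] at this⟩
  refine ⟨k, _, _, _, X, s, 1, g, g.levC6, g.cardC6 ?_, g.admC fun _ => comm_admF⟩
  rw [card_GF s, ← one_mul (Nat.card _), h2]
  simp only [Nat.cast_mul, cast_sub_one h0, Nat.cast_pow, Nat.cast_add, Nat.cast_one]

variable {S : Type} [Group S]

end Grp

end Cfsg.Agent.KZ.McX
end

-- part: KZ/McX/TF4
section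
prune_inst 0x2000004002000000000000004000000400000000204008000020000000000800000000000010000000000000000004000000000000a2000020000108800006000000000000000000000000000000000000000000000000000
set_option linter.all false
open scoped Cfsg.Agent.FastGrp

/-!
# KZ, the membership test for `²F₄` (helper22)

`exists_gtF X : ∃ w₀, Gt X.D w₀ ((-2) ^ m) J4` (`J4 * J4 = -2`); `Gt.sylF`, `Gt.regF`, `Gt.cardF`, `Gt.mcF`, `Gt.admF`,
`Gt.ordF`, `Gt.threeF`, `not_nineF`.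
-/

set_option autoImplicit false
set_option linter.unusedSectionVars false

namespace Cfsg.Agent.KZ.McX

open Cfsg Cfsg.Lie Cfsg.Agent.DL Cfsg.Agent.DL.PP Cfsg.Agent.KZ.Lie Cfsg.Agent.KZ.DatX Matrix
open Cfsg.Agent.ChevalleyStructure Cfsg.Agent.ChevalleyStructure.CoxeterGeomTypes Cfsg.Agent.Nodes Cfsg.Agent.Nodes.RGDChev

theorem three_dvd_sq {Q : ℤ} (hQ : 3 ∣ Q - 1) : 3 ∣ 2 * Q ^ 2 + 1 := by
  obtain ⟨s, hs⟩ := hQ
  exact ⟨6 * s ^ 2 + 4 * s + 1, by rw [sub_eq_iff_eq_add.1 hs]; ring⟩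

theorem cpL_cases : ∀ c ∈ cpL, ¬ 3 ∣ 1 - c.1 * 1 + c.2.1 * 1 ^ 2 - c.2.2.1 * 1 ^ 3 + c.2.2.2 * 1 ^ 4 ∨
    c = (0, 0, 0, -4) ∨ c = (0, -2, 0, 4) := by decide +kernel

theorem pow_dvd_cpL {Q : ℤ} (hQ : 3 ∣ Q - 1) {c : ℤ × ℤ × ℤ × ℤ} (hc : c ∈ cpL) {j : ℕ}
    (h : 3 ^ j ∣ 1 - c.1 * Q + c.2.1 * Q ^ 2 - c.2.2.1 * Q ^ 3 + c.2.2.2 * Q ^ 4) : 3 ^ j ∣ 2 * Q ^ 2 + 1 := by
  have h1 := three_dvd_sq hQ
  rcases cpL_cases c hc with h2 | rfl | rfl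
  · rcases j with _ | j
    · exact one_dvd _
    have h3 : 1 ≡ Q [ZMOD 3] := Int.modEq_iff_dvd.2 hQ
    exact absurd ((((((Int.ModEq.refl 1).sub (h3.mul_left _)).add ((h3.pow 2).mul_left _)).sub ((h3.pow 3).mul_left _)).add
      ((h3.pow 4).mul_left _)).dvd_iff.2 ((dvd_pow_self 3 j.succ_ne_zero).trans h)) h2
  · refine ((Int.prime_three.coprime_iff_not_dvd.2 (by omega : ¬ 3 ∣ 1 - 2 * Q ^ 2)).pow_left).dvd_of_dvd_mul_left ?_
    exact h.trans (dvd_of_eq (by ring))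
  · obtain ⟨s, hs⟩ := h1
    rcases j with _ | _ | j
    · exact one_dvd _
    · exact ⟨s, hs⟩
    · have h3 := (pow_dvd_pow 3 (by omega : 2 ≤ j + 1 + 1)).trans h
      rw [show 1 - 0 * Q + -2 * Q ^ 2 - 0 * Q ^ 3 + 4 * Q ^ 4 = 9 * (s ^ 2 - s) + 3 by
        linear_combination (2 * Q ^ 2 + 1 + 3 * s - 3) * hs] at h3
      omega

/-- an element of order three -/
def aF : Matrix (Fin 4) (Fin 4) ℤ := !![-1, -1, 0, 0; 1, 0, 0, 0; -2, -2, -2, -1; 2, 4, 3, 1]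

theorem abF : aF * J4 = J4 * aF ∧ aF * (aF * aF) = 1 ∧ aF ≠ 1 := by decide +kernel

theorem R4_cube : R4 * (R4 * R4) = 1 := by decide +kernel

theorem det_J4 (Q : ℤ) : (Q • J4 - 1).det = (2 * Q ^ 2 + 1) ^ 2 := by
  rw [det_cp4, show cp4 J4 = (0, 4, 0, 4) by decide +kernel]
  ring

theorem fix_J4 : ∀ lam ∈ [![0, 1, 0, 0], ![1, 0, -1, -1]], ∀ i, (3 : ℤ) ∣ (J4 *ᵥ lam - lam) i := by decide +kernel

theorem root_J4 : ∀ r < chevF4.nroots, ∃ lam ∈ [![0, 1, 0, 0], ![1, 0, -1, -1]], ¬ (3 : ℤ) ∣ RGDChev.vec chevF4 4 r ⬝ᵥ lam := by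
  decide +kernel

variable {p : ℕ} [Fact p.Prime] {k : Type} [Field k] [CharP k p] [IsAlgClosed k] {m : ℕ}

section Gen

variable {Y : Type} [Group Y] {N : Type} [Fintype N] [DecidableEq N] {ρ : Y →* GL N k} {F : MulAut Y} {G : Subgroup Y}
  {D : Datum p ρ F G} {Q : ℤ} {A B : Matrix D.R D.R ℤ}

theorem tc_smul {v w w' : D.W} (h1 : D.Wm w * D.Mx = Q • A) (h2 : D.Wm w' * D.Mx = Q • B) (hQ : Q ≠ 0) :
    Tc D v w w' ↔ D.Wm v * A = B * D.Wm v := by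
  rw [tc_mat, h1, h2, Matrix.mul_smul, Matrix.smul_mul, (smul_right_injective _ hQ).eq_iff]

theorem Gt.regC_of {w₀ : D.W} (h : Gt D w₀ Q A)
    (H : ∀ a, D.Rt a → ∃ lam, (∀ i, 3 ∣ (A *ᵥ lam - lam) i) ∧ ¬ 3 ∣ D.wt a ⬝ᵥ lam) : RegC D w₀ := regC_of_root fun a ha => by
  obtain ⟨lam, h1, h2⟩ := H a ha
  refine ⟨1, lam, fun i => ?_, by rwa [pow_one]⟩
  rw [h.eq, sub_mulVec, smul_mulVec, one_mulVec, pow_one]
  refine (dvd_add ((h1 i).mul_left Q) (h.dvd.mul_right (lam i))).trans (dvd_of_eq ?_)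
  simp only [Pi.sub_apply, Pi.smul_apply, smul_eq_mul]
  ring

theorem exists_mem_CW {r w : D.W} (h1 : r ^ 3 = 1) (h3 : ¬ 3 ∣ (CW D w).index) : ∃ w', Tc D r w' w' := by
  have : Fact (Nat.Prime 3) := ⟨Nat.prime_three⟩
  have h2 : IsPGroup 3 (Subgroup.zpowers r) := by
    rintro ⟨_, i, rfl⟩
    exact ⟨1, Subtype.ext (show (r ^ i) ^ 3 ^ 1 = 1 by
      rw [pow_one, ← zpow_natCast, zpow_comm, zpow_natCast, h1, _root_.one_zpow])⟩
  obtain ⟨g, hg⟩ := h2.nonempty_fixed_point_of_prime_not_dvd_card _ h3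
  induction g using QuotientGroup.induction_on with
  | H g =>
    have h4 : w * D.Fw (g⁻¹ * (r * g)) = g⁻¹ * (r * g) * w := QuotientGroup.eq.1 (hg ⟨r, Subgroup.mem_zpowers r⟩).symm
    rw [map_mul, map_mul, map_inv] at h4
    refine ⟨g * w * (D.Fw g)⁻¹, ?_⟩
    calc g * w * (D.Fw g)⁻¹ * D.Fw r = g * (w * ((D.Fw g)⁻¹ * (D.Fw r * D.Fw g))) * (D.Fw g)⁻¹ := by group
      _ = _ := by rw [h4]; group

theorem exists_sign (hA : D.Mx = (2 : ℤ) ^ m • A) (hz : ∃ z, D.Wm z = -1) :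
    ∃ z : D.W, z * z = 1 ∧ ∀ w, D.Wm (z * w) * D.Mx = (-2 : ℤ) ^ m • (D.Wm w * A) := by
  rcases m.even_or_odd with h1 | h1
  · exact ⟨1, one_mul 1, fun w => by rw [one_mul, hA, Matrix.mul_smul, h1.neg_pow]⟩
  · obtain ⟨z, hz⟩ := hz
    exact ⟨z, D.Wm_injective (by rw [D.Wm_mul, hz, neg_mul_neg, one_mul, D.Wm_one]), fun w => by
      rw [D.Wm_mul, hz, neg_one_mul, neg_mul, hA, Matrix.mul_smul, h1.neg_pow, neg_smul]⟩

end Gen

variable (X : XF hpF4 p k ((2 : ℤ) ^ m • GamF))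

theorem exists_gtF : ∃ w₀, Gt X.D w₀ ((-2) ^ m) J4 := by
  obtain ⟨z, -, hz⟩ := exists_sign (D := X.D) (A := GamF) rfl X.exists_neg_F4
  refine ⟨_, (hz _).trans (congrArg _ ((congrArg (fun A : Matrix (Fin 4) (Fin 4) ℤ => A * GamF) (X.Wm_word _)).trans J4_eq)), ?_⟩
  have := sub_dvd_pow_sub_pow (-2 : ℤ) 1 m
  rwa [one_pow, show (-2 - 1 : ℤ) = -3 from rfl, neg_dvd] at this

theorem exists_LF (w : X.D.W) : ∃ L ∈ wordsF4, X.D.Wm w * X.D.Mx = (-2 : ℤ) ^ m • mW L G4 := by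
  obtain ⟨z, h1, hz⟩ := exists_sign (D := X.D) (A := GamF) rfl X.exists_neg_F4
  obtain ⟨L, hL, e⟩ := exists_wordF4 X (z * w)
  have h2 := hz (z * w)
  rw [← mul_assoc, h1, one_mul] at h2
  refine ⟨L, hL, h2.trans (congrArg _ ?_)⟩
  rw [mW_eq, ← X.Wm_word, e]
  exact congrArg _ GamF_eq

theorem not_nineF (w : X.D.W) : ¬ 3 ^ 2 ∣ Nat.card (CW X.D w) := fun h => by
  obtain ⟨r, hr⟩ := X.exists_of_prod R4_eq
  obtain ⟨w', h1⟩ := exists_mem_CW (r := r) (w := w) (X.D.Wm_injective (by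
    rw [pow_three, X.D.Wm_mul, X.D.Wm_mul, hr, X.D.Wm_one]
    exact R4_cube)) fun e => by
      have h4 := Nat.mul_dvd_mul h e
      rw [Subgroup.card_mul_index, show Nat.card X.D.W = 1152 from card_W_F4] at h4
      omega
  obtain ⟨L, hL, e⟩ := exists_LF X w'
  rw [tc_smul e e (pow_ne_zero m (by decide)), hr] at h1
  exact (good_word L hL).1 h1

variable {X} {w₀ : X.D.W} (h : Gt X.D w₀ ((-2) ^ m) J4)
include h

theorem Gt.ordF : ordT X.D w₀ = (2 ^ (2 * m + 1) + 1) ^ 2 := by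
  rw [ordT, h.eq]
  refine (congrArg _ (det_J4 _)).trans ?_
  rw [← pow_mul, (even_two.mul_left m).neg_pow, ← pow_succ', mul_comm m]
  rfl

theorem Gt.threeF : 3 ^ 1 ∣ Nat.card (CW X.D w₀) :=
  h.three_dvd ((X.Wm_word [0, 1, 2, 1, 0, 2, 1, 2, 3, 2, 1, 0, 2, 1, 2, 3]).trans
    (prod_eq_of isRows_F4 _ (B := aF) (by decide +kernel))) abF

theorem Gt.regF : RegC X.D w₀ := h.regC_of fun a ha => by
  obtain ⟨r, hr, rfl⟩ := (X.rt_iff a).1 ha
  obtain ⟨lam, h1, h2⟩ := root_J4 r hr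
  exact ⟨lam, fix_J4 lam h1, h2⟩

theorem Gt.sylF : SylC X.D w₀ := fun w hw => by
  obtain ⟨L, hL, e⟩ := exists_LF X w
  have hc : cp4 (mW L G4) ∈ cpL := (good_word L hL).2.resolve_right fun ⟨V, _, hV⟩ =>
    hw (CoxeterMatrix.F₄.toCoxeterSystem.wordProd V) ((tc_smul h.eq e h.ne).2 (by
      rw [mW_eq V, mW_eq V, mul_one, ← X.Wm_word] at hV
      exact hV))
  have h1 : ordT X.D w₀ = (2 * ((-2 : ℤ) ^ m) ^ 2 + 1).natAbs ^ 2 := by
    rw [ordT, h.eq]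
    exact (congrArg _ (det_J4 _)).trans (Int.natAbs_pow _ _)
  have h0 : (2 * ((-2 : ℤ) ^ m) ^ 2 + 1).natAbs ≠ 0 := Int.natAbs_ne_zero.2 (by positivity)
  have h2 := (Nat.prime_three.pow_dvd_iff_le_factorization h0).1 (Int.natCast_dvd.1 (by
    exact_mod_cast pow_dvd_cpL h.dvd hc (j := (ordT X.D w).factorization 3) (by
      rw [← det_cp4]
      have h2 := Int.natCast_dvd.2 (Nat.ordProj_dvd (ordT X.D w) 3)
      rw [e] at h2
      exact_mod_cast h2)))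
  have h3 := (Nat.prime_three.dvd_iff_one_le_factorization h0).1 (Int.natCast_dvd.1 (three_dvd_sq h.dvd))
  have h4 := mt (Nat.prime_three.pow_dvd_iff_le_factorization Nat.card_pos.ne').2 (not_nineF X w)
  have h5 := (Nat.prime_three.pow_dvd_iff_le_factorization Nat.card_pos.ne').1 h.threeF
  rw [Nat.factorization_mul (ordT_ne w) Nat.card_pos.ne', Nat.factorization_mul (ordT_ne w₀) Nat.card_pos.ne',
    Finsupp.add_apply, Finsupp.add_apply, h1, Nat.factorization_pow, Finsupp.smul_apply, smul_eq_mul]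
  omega

theorem Gt.cardF (hp : p ≠ 3) : CardC X.D w₀ := h.sylF.cardC hp

theorem Gt.admF : AdmC X.D (AdmF p) w₀ := h.admC fun _ => comm_admF

/-- **The membership test.** -/
theorem Gt.mcF (f : Fr X.D) [Fintype ↥(GF X.F ⊤)] (hp : p ≠ 3) : Mc f w₀ := mc_of_syl f hp h.sylF h.regF

end Cfsg.Agent.KZ.McX
end
end
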